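import Cfsg.Agent.H121.OZ.JTwoCls
import Cfsg.Agent.H672.OZ.Sieve
import Cfsg.Agent.H730.OZ.Asm
import Cfsg.Agent.SmallSimple.InvolColumn
import Cfsg.Agent.S1619

/-!
# One vanishing class: `J₂` (helper121, S4842)

All elements of order 8 are conjugate and have centralizers of order 8, so `d` is odd or `x` has order 8.  Classes with
centralizers of orders 36, 50, 7 (order 3, 5, 7): `d` is a power of one of 2, 3, 5, 7; by the residue modulo 7 it is one of
7, 8, 64.  The value at the central involutions (Burnside) excludes 8 and 64; for `d = 7` it is congruent to 7 modulo 16 (by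
subgroups `C₄ × C₄` and `C₈`).
-/

set_option autoImplicit false
set_option maxRecDepth 100000

open Cfsg Cfsg.Agent.Characters Cfsg.Agent.H732.VZ Cfsg.Agent.H604.OZ

namespace Cfsg.Agent.H121.OZ.JTwo

open Cfsg.Agent.H1 Cfsg.Agent.SporadicA.J2Hundred Cfsg.Agent.J2.HundredGens Cfsg.Agent.H1.J2Cls
  Cfsg.Agent.H1.J2Cover Cfsg.Agent.H121.OZ.JTwoCls

universe u

open scoped commutatorElement

/-- **Two elements of the same type**, the type belonging to one class. -/
theorem conj_of {g h : G} (i : Fin 21) (hi : ∀ j : Fin 21, ov j = ov i → cv j = cv i → j = i) (hg : orderOf g = ov i)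
    (hg' : cent g = cv i) (hh : orderOf h = ov i) (hh' : cent h = cv i) : IsConj g h := by
  obtain ⟨a, ha, ha1, ha2⟩ := type g
  obtain ⟨b, hb, hb1, hb2⟩ := type h
  have h1 := hi a (ha1.symm.trans hg) (ha2.symm.trans hg')
  have h2 := hi b (hb1.symm.trans hh) (hb2.symm.trans hh')
  subst h1
  subst h2
  exact ha.symm.trans hb

/-- The elements of an order which belongs to one class. -/
theorem conj_of_order {g h : G} (i : Fin 21) (hi : ∀ j : Fin 21, ov j = ov i → j = i) (hg : orderOf g = ov i)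
    (hh : orderOf h = ov i) : IsConj g h := by
  obtain ⟨a, ha, ha1, -⟩ := type g
  obtain ⟨b, hb, hb1, -⟩ := type h
  have h1 := hi a (ha1.symm.trans hg)
  have h2 := hi b (hb1.symm.trans hh)
  subst h1
  subst h2
  exact ha.symm.trans hb

theorem cent_of_order {g : G} (i : Fin 21) (hi : ∀ j : Fin 21, ov j = ov i → j = i) (hg : orderOf g = ov i) :
    cent g = cv i := by
  obtain ⟨a, -, ha1, ha2⟩ := type g
  have h1 := hi a (ha1.symm.trans hg)
  subst h1
  exact ha2

/-- the power by a number prime to the group order has the same type -/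
theorem order_pow {g : G} {m : ℕ} (hm : m.Coprime (Nat.card G)) : orderOf (g ^ m) = orderOf g :=
  Nat.Coprime.orderOf_pow (Nat.Coprime.coprime_dvd_left (_root_.orderOf_dvd_natCard g) hm.symm)

theorem cent_pow {g : G} {m : ℕ} (hm : m.Coprime (Nat.card G)) : cent (g ^ m) = cent g := by
  have := Fintype.ofFinite G
  exact H849.OZ.card_centralizer_pow hm g

theorem seven_le (g : G) : 7 ≤ cent g := by
  have key : ∀ a : Fin 21, 7 ≤ cv a := by decide +kernel
  obtain ⟨a, -, -, h⟩ := type g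
  rw [h]
  exact key a

/-- the representatives -/
theorem rep (i : Fin 21) : orderOf (gw (rL i)) = ov i ∧ cent (gw (rL i)) = cv i := ⟨order_r i.2, classes.1 i⟩

/-! ### the subgroup `C₄ × C₄` -/

def wa : List ℕ := [2, 3, 2, 3]
def wb : List ℕ := [1, 0, 1, 2, 1, 0, 3, 2, 1, 0, 1, 2, 3, 2, 1, 3, 4, 3, 2, 3, 4]

theorem chk_eq {L M : List ℕ} (h : chk L M = true) : gw L = gw M := Subtype.ext (pw_eq h)

theorem chk_ne {L M : List ℕ} (h : Nat.beq (run L 2) (run M 2) = false ∨ Nat.beq (run L 13) (run M 13) = false) :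
    gw L ≠ gw M := by
  intro h1
  have h2 : pw L = pw M := congrArg Subtype.val h1
  rcases h with h | h
  · have h3 : run L 2 = run M 2 := by
      have h4 := pw_val L 2
      rw [h2, pw_val] at h4
      exact h4.symm
    rw [h3, Nat.beq_refl] at h
    exact Bool.noConfusion h
  · have h3 : run L 13 = run M 13 := by
      have h4 := pw_val L 13
      rw [h2, pw_val] at h4
      exact h4.symm
    rw [h3, Nat.beq_refl] at h
    exact Bool.noConfusion h

theorem ab_comm : Commute (gw wa) (gw wb) := by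
  change gw wa * gw wb = gw wb * gw wa
  rw [← gw_append, ← gw_append]
  exact chk_eq (by decide +kernel)

theorem pow_two_gw (L : List ℕ) : gw L ^ 2 = gw (L ++ L) := by rw [pow_two, gw_append]

theorem pow_four_gw (L : List ℕ) : gw L ^ 4 = gw ((L ++ L) ++ (L ++ L)) := by
  rw [show 4 = 2 * 2 from rfl, pow_mul, pow_two_gw, pow_two_gw]

theorem a4 : gw wa ^ 4 = 1 := by
  rw [pow_four_gw, ← gw_nil]
  exact chk_eq (by decide +kernel)

theorem b4 : gw wb ^ 4 = 1 := by
  rw [pow_four_gw, ← gw_nil]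
  exact chk_eq (by decide +kernel)

theorem a2 : gw wa ^ 2 ≠ 1 := by
  rw [pow_two_gw, ← gw_nil]
  exact chk_ne (by decide +kernel)

theorem b2 : gw wb ^ 2 ≠ 1 := by
  rw [pow_two_gw, ← gw_nil]
  exact chk_ne (by decide +kernel)

theorem ab2 : gw wa ^ 2 * gw wb ^ 2 ≠ 1 := by
  rw [pow_two_gw, pow_two_gw, ← gw_append, ← gw_nil]
  exact chk_ne (by decide +kernel)

/-- the elements of order 4 -/
theorem four_of {g : G} (h4 : g ^ 4 = 1) (h2 : g ^ 2 ≠ 1) : orderOf g = 4 := by
  have : Fact (Nat.Prime 2) := ⟨Nat.prime_two⟩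
  exact orderOf_eq_prime_pow (p := 2) (n := 1) (by rwa [pow_one]) (by norm_num [h4])

theorem conj_four {g h : G} (hg : orderOf g = 4) (hh : orderOf h = 4) : IsConj g h :=
  conj_of_order 14 (by decide +kernel) hg hh

theorem oa : orderOf (gw wa) = 4 := four_of a4 a2
theorem ob : orderOf (gw wb) = 4 := four_of b4 b2

/-- the class of `a ^ i * b ^ j` -/
theorem ab_pow {i j : ℕ} (hi : i < 4) (hj : j < 4) : (i % 2 = 0 ∧ j % 2 = 0 → ¬ (i = 0 ∧ j = 0) →
    IsConj (gw wa ^ 2) (gw wa ^ i * gw wb ^ j)) ∧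
    (¬ (i % 2 = 0 ∧ j % 2 = 0) → IsConj (gw wa) (gw wa ^ i * gw wb ^ j)) := by
  have hc := ab_comm
  have hp : ∀ i j m : ℕ, (gw wa ^ i * gw wb ^ j) ^ m = gw wa ^ (i * m) * gw wb ^ (j * m) := fun i j m => by
    rw [(hc.pow_pow i j).mul_pow, ← pow_mul, ← pow_mul]
  have ra : ∀ n : ℕ, gw wa ^ n = gw wa ^ (n % 4) := fun n => by
    rw [← pow_mod_orderOf, oa]
  have rb : ∀ n : ℕ, gw wb ^ n = gw wb ^ (n % 4) := fun n => by
    rw [← pow_mod_orderOf, ob]
  have h4 : ∀ i j : ℕ, (gw wa ^ i * gw wb ^ j) ^ 4 = 1 := fun i j => by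
    rw [hp, ra, rb, Nat.mul_mod_left, Nat.mul_mod_left, pow_zero, pow_zero, one_mul]
  have hab : IsConj (gw wa) (gw wa ^ 1 * gw wb ^ 1) := by
    refine conj_four oa (four_of (h4 1 1) ?_)
    rw [hp]
    exact ab2
  constructor
  · rintro ⟨h1, h2⟩ h3
    have key : (i = 0 ∧ j = 2) ∨ (i = 2 ∧ j = 0) ∨ (i = 2 ∧ j = 2) := by omega
    rcases key with ⟨rfl, rfl⟩ | ⟨rfl, rfl⟩ | ⟨rfl, rfl⟩
    · rw [pow_zero, one_mul]
      exact H849.OZ.isConj_pow (conj_four oa ob) 2
    · rw [pow_zero, mul_one]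
    · have h5 := H849.OZ.isConj_pow hab 2
      rwa [hp] at h5
  · intro h
    refine conj_four oa (four_of (h4 i j) ?_)
    rw [hp, ra, rb]
    have key : (i * 2 % 4 = 0 ∧ j * 2 % 4 = 2) ∨ (i * 2 % 4 = 2 ∧ j * 2 % 4 = 0) ∨
        (i * 2 % 4 = 2 ∧ j * 2 % 4 = 2) := by omega
    rcases key with ⟨e1, e2⟩ | ⟨e1, e2⟩ | ⟨e1, e2⟩
    · rw [e1, e2, pow_zero, one_mul]
      exact b2
    · rw [e1, e2, pow_zero, mul_one]
      exact a2
    · rw [e1, e2]
      exact ab2

theorem commutator_eq : commutator G = ⊤ := by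
  have hs := simple
  rcases (inferInstance : (commutator G).Normal).eq_bot_or_eq_top with h | h
  · exfalso
    have h1 : ∀ a b : G, a * b = b * a := fun a b => by
      have h2 : ⁅a, b⁆ ∈ commutator G := Subgroup.commutator_mem_commutator (Subgroup.mem_top a) (Subgroup.mem_top b)
      rw [h, Subgroup.mem_bot, commutatorElement_eq_one_iff_mul_comm] at h2
      exact h2
    have h3 := (rep 5).2
    have h4 : Subgroup.centralizer ({gw (rL (5 : Fin 21))} : Set G) = ⊤ := by
      rw [eq_top_iff]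
      intro g _
      rw [Subgroup.mem_centralizer_singleton_iff]
      exact h1 _ _
    unfold cent at h3
    rw [h4, Subgroup.card_top, card_G] at h3
    revert h3
    decide +kernel
  · exact h

/-! ### the row -/

section row

variable {χ : IrrCharacter G} {x : G}

theorem two_dvd (ho : One χ x) (hd : 2 ∣ charDegree (χ : G → ℂ)) : orderOf x = 8 := by
  obtain ⟨o8, c8⟩ := rep 5
  by_contra hne
  have h1 := H849.OZ.one_prime ho (y := gw (rL (5 : Fin 21))) Nat.prime_two hd ⟨3, by rw [o8]; decide +kernel⟩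
    (fun m hm => conj_of_order 5 (by decide +kernel) (by rw [order_pow hm, o8]) o8) (fun hx => by
      rw [orderOf_eq_of_conj hx, o8] at hne
      exact hne (by decide +kernel))
  have h7 := seven_le x
  rw [c8] at h1
  have h8 : cv ((5 : Fin 21) : ℕ) = 8 := by decide +kernel
  omega

theorem three_dvd (ho : One χ x) (hd : 3 ∣ charDegree (χ : G → ℂ)) : orderOf x = 3 := by
  obtain ⟨o8, c8⟩ := rep 4
  by_contra hne
  have h1 := H849.OZ.one_prime ho (y := gw (rL (4 : Fin 21))) Nat.prime_three hd ⟨1, by rw [o8]; decide +kernel⟩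
    (fun m hm => conj_of 4 (by decide +kernel) (by rw [order_pow hm, o8]) (by rw [cent_pow hm, c8]) o8 c8) (fun hx => by
      rw [orderOf_eq_of_conj hx, o8] at hne
      exact hne (by decide +kernel))
  have h7 := seven_le x
  rw [c8] at h1
  have h8 : cv ((4 : Fin 21) : ℕ) = 36 := by decide +kernel
  omega

def wy : List ℕ := rL 19
def wc : List ℕ := [1, 0, 4, 3, 2, 1, 0, 3, 2, 1, 0, 3, 2, 4, 3, 2, 1]

theorem y_sq : IsConj (gw (rL 19) ^ 2) (gw (rL 20)) := by
  refine isConj_iff.2 ⟨gw wc, ?_⟩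
  rw [mul_inv_eq_iff_eq_mul, pow_two_gw, ← gw_append, ← gw_append]
  exact chk_eq (by decide +kernel)

theorem five_dvd (ho : One χ x) (hd : 5 ∣ charDegree (χ : G → ℂ)) : orderOf x = 5 := by
  classical
  obtain ⟨o5, c5⟩ := rep 19
  have o5' : orderOf (gw (rL (19 : Fin 21))) = 5 := by rw [o5]; decide +kernel
  have c5' : cent (gw (rL (19 : Fin 21))) = 50 := by rw [c5]; decide +kernel
  set y : G := gw (rL (19 : Fin 21)) with hy
  have hy20 : IsConj (y ^ 2) (gw (rL (20 : Fin 21))) := y_sq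
  by_contra hne
  have h17 : y ^ 17 = y ^ 2 := by
    rw [pow_eq_pow_iff_modEq, o5']
    decide
  have hcop : Nat.Coprime 17 (Nat.card G) := by rw [card_G]; norm_num
  have hT : H849.OZ.GalOrb y {1, 17} := by
    refine H849.OZ.galOrb_two hcop ?_ ?_
    · intro h
      rw [h17] at h
      have h1 := classes.2 19 20 (h.trans hy20)
      revert h1
      decide
    · intro m hm
      rw [h17]
      obtain ⟨j, hj, hj1, hj2⟩ := type (y ^ m)
      rw [order_pow hm, o5'] at hj1
      rw [cent_pow hm, c5'] at hj2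
      have key : ∀ j : Fin 21, 5 = ov j → 50 = cv j → j = 19 ∨ j = 20 := by decide +kernel
      rcases key j hj1 hj2 with rfl | rfl
      · exact Or.inl hj.symm
      · exact Or.inr (hj.symm.trans hy20.symm)
  have h1 := H849.OZ.one_orb ho hT (r := 5) (by norm_num) hd ⟨1, by rw [o5', pow_one]⟩ (fun hx => by
      rw [orderOf_eq_of_conj hx, o5'] at hne
      exact hne rfl) (b := 5) (by norm_num) (by
      rw [show ({1, 17} : Finset ℕ).card = 2 from rfl]
      norm_num)
  rw [show ({1, 17} : Finset ℕ).card = 2 from rfl] at h1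
  change _ ≤ ((cent y : ℕ) : ℝ) at h1
  rw [c5'] at h1
  have h7 := seven_le x
  have h7' : (7 : ℝ) ≤ cent x := by exact_mod_cast h7
  push_cast at h1
  linarith

theorem seven_dvd (ho : One χ x) (hd : 7 ∣ charDegree (χ : G → ℂ)) : orderOf x = 7 := by
  obtain ⟨o7, c7⟩ := rep 18
  have o7' : orderOf (gw (rL (18 : Fin 21))) = 7 := by rw [o7]; decide +kernel
  have h1 := conj_of_singular ho (r := 7) (n := 1) (by norm_num) (by rw [card_G]; norm_num) (by rw [card_G]; norm_num)
    (by rwa [pow_one]) (g := gw (rL (18 : Fin 21))) (by rw [o7'])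
  rw [orderOf_eq_of_conj h1, o7']

/-- The degree is 7, 8 or 64. -/
theorem deg_mem (ho : One χ x) : charDegree (χ : G → ℂ) = 7 ∨ charDegree (χ : G → ℂ) = 8 ∨
    charDegree (χ : G → ℂ) = 64 := by
  have hs := simple
  obtain ⟨o7, c7⟩ := rep 18
  have h7 := seven_le x
  have hiso : ∀ r ∈ [7], charDegree (χ : G → ℂ) % r = 0 ∨ charDegree (χ : G → ℂ) % r = 1 ∨
      charDegree (χ : G → ℂ) % r = r - 1 := by
    intro r hr
    simp only [List.mem_cons, List.not_mem_nil, or_false] at hr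
    subst hr
    exact H672.OZ.iso_mod_of ho (by norm_num) le_rfl (by rw [card_G]; norm_num) (by rw [card_G]; norm_num)
      (z := gw (rL (18 : Fin 21))) (by rw [o7]; decide +kernel) (by
        change cent _ ≤ 7
        rw [c7]; decide +kernel) (by omega)
  have hm := H672.OZ.mem_of_sieve4 ho card_G (c0 := 7) (l := [(2,7),(3,3),(5,2),(7,1)]) (by decide +kernel)
    (by
      intro x hx
      simp only [List.mem_cons, List.not_mem_nil, or_false] at hx
      rcases hx with rfl | rfl | rfl | rfl <;> norm_num)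
    (by decide +kernel) h7 hiso (D := [8, 64, 6, 48, 36, 288, 20, 160, 15, 120, 90, 7, 14, 28, 56, 112, 224, 21, 42, 84,
      168, 63, 126, 252, 35, 70, 140, 280, 105, 210]) (by decide +kernel)
  have e2 := two_dvd ho
  have e3 := three_dvd ho
  have e5 := five_dvd ho
  have e7 := seven_dvd ho
  generalize charDegree (χ : G → ℂ) = d at *
  simp only [List.mem_cons, List.not_mem_nil, or_false] at hm
  omega

theorem chi_ne_one (ho : One χ x) : (χ : G → ℂ) ≠ 1 := by
  intro h
  have h1 := ho.zero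
  rw [h] at h1
  simp at h1

/-- The degree is not 8 or 64. -/
theorem not_two_pow (ho : One χ x) {k : ℕ} (hk : charDegree (χ : G → ℂ) = 2 ^ k) (hk0 : k ≠ 0) : False := by
  have hs := simple
  obtain ⟨o2, c2⟩ := rep 1
  have o2' : orderOf (gw (rL (1 : Fin 21))) = 2 := by rw [o2]; decide +kernel
  have c2' : cent (gw (rL (1 : Fin 21))) = 1920 := by rw [c2]; decide +kernel
  set z : G := gw (rL (1 : Fin 21)) with hz
  have hrat : ∀ m : ℕ, m.Coprime (Nat.card G) → IsConj (z ^ m) z := fun m hm =>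
    conj_of 1 (by decide +kernel) (by rw [order_pow hm, o2]) (by rw [cent_pow hm, c2]) o2 c2
  obtain ⟨v, hv, hlt, -⟩ := SmallSimple.InvolColumn.exists_int commutator_eq χ.2 (chi_ne_one ho) (t := z)
    (by rw [← o2', pow_orderOf_eq_one]) (fun h => by rw [h, orderOf_one] at o2'; omega)
  have h1 := H849.OZ.rat_dvd_deg (χ := χ) z hv
  have hidx : (Subgroup.centralizer ({z} : Set G)).index = 315 := by
    have h2 := Subgroup.card_mul_index (Subgroup.centralizer ({z} : Set G))
    rw [card_G] at h2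
    change cent z * _ = _ at h2
    rw [c2'] at h2
    omega
  rw [hidx, hk] at h1
  rw [hk] at hlt
  have h3 : ((2 ^ k : ℕ) : ℤ) ∣ v := by
    refine IsCoprime.dvd_of_dvd_mul_left ?_ h1
    rw [Nat.isCoprime_iff_coprime]
    exact Nat.Coprime.pow_left k (by norm_num)
  have h4 : v = 0 := Int.eq_zero_of_abs_lt_dvd h3 hlt
  have h5 : orderOf x = 2 := by
    rw [orderOf_eq_of_conj (ho.uniq z (by rw [hv, h4]; simp)), o2']
  have h6 := two_dvd ho (by rw [hk]; exact dvd_pow_self 2 hk0)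
  omega

/-- The degree is not 7. -/
theorem ne_seven (ho : One χ x) (hd : charDegree (χ : G → ℂ) = 7) : False := by
  classical
  have hs := simple
  have hcf := Core.isIrr_isClassFunction χ.2
  have hχ := Core.isIrr_isCharacter χ.2
  have h1 : (χ : G → ℂ) 1 = 7 := by rw [← H686.CharKit.charDegree_irr χ, hd]; norm_num
  obtain ⟨o8, -⟩ := rep 5
  have o8' : orderOf (gw (rL (5 : Fin 21))) = 8 := by rw [o8]; decide +kernel
  set e : G := gw (rL (5 : Fin 21)) with he
  have hratA : ∀ m : ℕ, m.Coprime (Nat.card G) → IsConj (gw wa ^ m) (gw wa) := fun m hm =>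
    conj_four (by rw [order_pow hm, oa]) oa
  have hratE : ∀ m : ℕ, m.Coprime (Nat.card G) → IsConj (e ^ m) e := fun m hm =>
    conj_of_order 5 (by decide +kernel) (by rw [order_pow hm, o8]) o8
  obtain ⟨w, hw⟩ := H849.OZ.rat (χ := χ) hratA
  obtain ⟨u, hu⟩ := H849.OZ.rat (χ := χ) hratE
  obtain ⟨v, hv, hlt, -⟩ := SmallSimple.InvolColumn.exists_int commutator_eq χ.2 (chi_ne_one ho) (t := gw wa ^ 2)
    (by rw [← pow_mul]; exact a4) a2
  rw [hd] at hlt
  have hval : ∀ {g h : G}, IsConj g h → (χ : G → ℂ) h = (χ : G → ℂ) g := fun h =>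
    (Core.classFunction_apply_eq hcf h).symm
  -- `C₄ × C₄`
  obtain ⟨k, hk⟩ := sum_pow_pow hχ ab_comm oa ob
  have hterm : ∀ i j : Fin 4, (χ : G → ℂ) (gw wa ^ (i : ℕ) * gw wb ^ (j : ℕ)) =
      (((if (i : ℕ) % 2 = 0 ∧ (j : ℕ) % 2 = 0 then (if (i : ℕ) = 0 ∧ (j : ℕ) = 0 then 7 else v) else w : ℤ)) : ℂ) := by
    intro i j
    have h2 := ab_pow i.2 j.2
    by_cases h3 : (i : ℕ) % 2 = 0 ∧ (j : ℕ) % 2 = 0
    · rw [if_pos h3]
      by_cases h4 : (i : ℕ) = 0 ∧ (j : ℕ) = 0
      · rw [if_pos h4, h4.1, h4.2, pow_zero, pow_zero, one_mul, h1]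
        norm_num
      · rw [if_neg h4, hval (h2.1 h3 h4), hv]
    · rw [if_neg h3, hval (h2.2 h3), hw]
  rw [Finset.sum_congr rfl fun i _ => Finset.sum_congr rfl fun j _ => hterm i j] at hk
  have hk' : (7 + 3 * v + 12 * w : ℤ) = 16 * k := by
    have h2 : (∑ i : Fin 4, ∑ j : Fin 4,
        (if (i : ℕ) % 2 = 0 ∧ (j : ℕ) % 2 = 0 then (if (i : ℕ) = 0 ∧ (j : ℕ) = 0 then 7 else v) else w : ℤ)) =
        7 + 3 * v + 12 * w := by
      simp [Fin.sum_univ_four]
      ring
    rw [← h2]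
    have h3 : ((4 : ℕ) : ℂ) * ((4 : ℕ) : ℂ) * (k : ℂ) = ((16 * k : ℤ) : ℂ) := by push_cast; ring
    rw [h3] at hk
    exact_mod_cast hk
  -- `C₈`
  obtain ⟨l, hl⟩ := sum_pow_pow hχ (Commute.one_right e) o8' (orderOf_one)
  have c2 : IsConj (gw wa) (e ^ 2) := conj_four oa (by
    rw [orderOf_pow' e (by norm_num), o8']; norm_num)
  have c4 : IsConj (gw wa ^ 2) (e ^ 4) := by
    have h2 := H849.OZ.isConj_pow c2 2
    rwa [← pow_mul] at h2
  have c6 : IsConj (gw wa) (e ^ 6) := conj_four oa (by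
    rw [orderOf_pow' e (by norm_num), o8']; norm_num)
  have codd : ∀ m : ℕ, m.Coprime 8 → IsConj e (e ^ m) := fun m hm =>
    conj_of_order 5 (by decide +kernel) o8 (by
      rw [Nat.Coprime.orderOf_pow (by rw [o8']; exact hm.symm), o8])
  have hl' : (7 + v + 2 * w + 4 * u : ℤ) = 8 * l := by
    have h2 : ∀ j : Fin 1, (j : ℕ) = 0 := fun j => by omega
    simp only [one_pow, mul_one, Finset.sum_const, Finset.card_univ, Fintype.card_fin, one_smul] at hl
    rw [Fin.sum_univ_eight] at hl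
    have q0 : (χ : G → ℂ) (e ^ ((0 : Fin 8) : ℕ)) = 7 := by
      rw [show ((0 : Fin 8) : ℕ) = 0 from rfl, pow_zero, h1]
    have q1 : (χ : G → ℂ) (e ^ ((1 : Fin 8) : ℕ)) = u := by rw [hval (codd _ (by decide)), hu]
    have q2 : (χ : G → ℂ) (e ^ ((2 : Fin 8) : ℕ)) = w := by rw [← hw]; exact hval c2
    have q3 : (χ : G → ℂ) (e ^ ((3 : Fin 8) : ℕ)) = u := by rw [hval (codd _ (by decide)), hu]
    have q4 : (χ : G → ℂ) (e ^ ((4 : Fin 8) : ℕ)) = v := by rw [← hv]; exact hval c4
    have q5 : (χ : G → ℂ) (e ^ ((5 : Fin 8) : ℕ)) = u := by rw [hval (codd _ (by decide)), hu]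
    have q6 : (χ : G → ℂ) (e ^ ((6 : Fin 8) : ℕ)) = w := by rw [← hw]; exact hval c6
    have q7 : (χ : G → ℂ) (e ^ ((7 : Fin 8) : ℕ)) = u := by rw [hval (codd _ (by decide)), hu]
    rw [q0, q1, q2, q3, q4, q5, q6, q7] at hl
    have h3 : ((7 + v + 2 * w + 4 * u : ℤ) : ℂ) = ((8 * l : ℤ) : ℂ) := by
      push_cast
      push_cast at hl
      linear_combination hl
    exact_mod_cast h3
  -- `u` is odd
  have hu2 : ¬ (2 : ℤ) ∣ u := by
    intro h2
    obtain ⟨M, hM⟩ := Blocks.ExistsModular.exists_isPModular Nat.prime_two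
    have h3 := H849.OZ.av_sub_mem (χ := χ) Nat.prime_two hM.2.1.isPrime hM.2.2 e (j := 0) (n := 3) (by
      rw [pow_zero, one_pow, show 2 ^ 3 = 8 from rfl, ← o8', pow_orderOf_eq_one])
    rw [pow_zero] at h3
    have h4 : av χ e - av χ (1 : G) = ((u - 7 : ℤ) : AlgInt) := by
      apply Subtype.ext
      rw [show ((av χ e - av χ (1 : G) : AlgInt) : ℂ) = (av χ e : ℂ) - (av χ (1 : G) : ℂ) from rfl, av_coe, av_coe, hu, h1]
      push_cast
      rfl
    rw [h4, int_mem_iff Nat.prime_two hM.2.1.isPrime hM.2.2] at h3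
    omega
  rw [abs_lt] at hlt
  push_cast at hlt
  omega

end row

/-- **`J₂` on 100 points.** -/
theorem row_G : H730.OZ.Row G := by
  refine row_of fun χ x ho => ?_
  rcases deg_mem ho with h | h | h
  · exact ne_seven ho h
  · exact not_two_pow ho (k := 3) (by rw [h]; norm_num) (by norm_num)
  · exact not_two_pow ho (k := 6) (by rw [h]; norm_num) (by norm_num)

/-- **S4842, the row `J₂`.** -/
theorem row_j2 {S : Type u} [Group S] [Finite S] (_hs : IsSimpleGroup S) (h : Spor.IsoJ2 S) : H730.OZ.Row S := by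
  obtain ⟨e⟩ := h
  obtain ⟨f⟩ := J2_iso S1619.result.2.2.2
  exact H730.OZ.Row.congr (e.trans f) row_G

end Cfsg.Agent.H121.OZ.JTwo
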