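import Cfsg.Agent.H672.OZ.Full
import Cfsg.Agent.H849.OZ.Bad

/-!
# Class equations and small subgroups (helper121, for S4842)

* `class_eq` : a family `r j` meeting every class, with `c j ≤ |C(r j)|` and `∑ |G| / c j ≤ |G|`: `|C(r j)| = c j` and the
  `r j` are pairwise not conjugate;
* `sum_hom` : `∑ χ (f h)`, `f : H → G` a homomorphism, is divisible by `|H|`;
* `sum_pow_pow` : the same for the commuting elements `a`, `b`.
-/

set_option autoImplicit false

open Cfsg Cfsg.Agent.Characters Cfsg.Agent.H732.VZ Cfsg.Agent.H604.OZ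

namespace Cfsg.Agent.H121.OZ

universe u v

variable {G : Type u} [Group G] [Finite G]

/-- **The class equation** with lower bounds for the centralizers. -/
theorem class_eq {ι : Type v} [Fintype ι] (r : ι → G) (c : ι → ℕ) (hc0 : ∀ j, 0 < c j) (hc : ∀ j, c j ≤ cent (r j))
    (hd : ∀ j, c j ∣ Nat.card G) (hcov : ∀ g, ∃ j, IsConj (r j) g) (hs : ∑ j, Nat.card G / c j ≤ Nat.card G) :
    (∀ j, cent (r j) = c j) ∧ ∀ i j, IsConj (r i) (r j) → i = j := by
  classical
  have := Fintype.ofFinite G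
  set N := Nat.card G with hN
  have hNF : N = Fintype.card G := Nat.card_eq_fintype_card
  let K : ι → Finset G := fun j => Finset.univ.filter fun g => IsConj (r j) g
  have hK : ∀ j g, g ∈ K j ↔ IsConj (r j) g := fun j g => by simp [K]
  have h1 : ∀ j, (K j).card * cent (r j) = N := fun j => H849.OZ.card_class (r j)
  have h2 : ∀ j, (K j).card ≤ N / c j := by
    intro j
    rw [Nat.le_div_iff_mul_le (hc0 j)]
    calc (K j).card * c j ≤ (K j).card * cent (r j) := Nat.mul_le_mul_left _ (hc j)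
      _ = N := h1 j
  have h3 : ∀ s : Finset ι, (∀ g, ∃ j ∈ s, IsConj (r j) g) → N ≤ ∑ j ∈ s, (K j).card := by
    intro s hs
    have h4 : (Finset.univ : Finset G) ⊆ s.biUnion K := by
      intro g _
      obtain ⟨j, hj, hg⟩ := hs g
      exact Finset.mem_biUnion.2 ⟨j, hj, (hK j g).2 hg⟩
    have h5 := (Finset.card_le_card h4).trans Finset.card_biUnion_le
    rwa [Finset.card_univ, ← hNF] at h5
  have h4 : ∑ j, (K j).card = ∑ j, N / c j := by
    refine le_antisymm (Finset.sum_le_sum fun j _ => h2 j) (hs.trans (h3 Finset.univ fun g => ?_))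
    obtain ⟨j, hj⟩ := hcov g
    exact ⟨j, Finset.mem_univ _, hj⟩
  have h5 : ∀ j, (K j).card = N / c j := fun j =>
    (Finset.sum_eq_sum_iff_of_le fun j _ => h2 j).1 h4 j (Finset.mem_univ _)
  have hpos : ∀ j, 0 < (K j).card := fun j => Finset.card_pos.2 ⟨r j, (hK j _).2 (IsConj.refl _)⟩
  constructor
  · intro j
    have h6 := h1 j
    have h7 : (K j).card * c j = N := by rw [h5 j, Nat.div_mul_cancel (hd j)]
    exact Nat.eq_of_mul_eq_mul_left (hpos j) (h6.trans h7.symm)
  · intro i j hij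
    by_contra hne
    have h6 := h3 (Finset.univ.erase i) fun g => by
      obtain ⟨l, hl⟩ := hcov g
      by_cases hli : l = i
      · refine ⟨j, Finset.mem_erase.2 ⟨fun h => hne h.symm, Finset.mem_univ _⟩, ?_⟩
        rw [hli] at hl
        exact hij.symm.trans hl
      · exact ⟨l, Finset.mem_erase.2 ⟨hli, Finset.mem_univ _⟩, hl⟩
    have h7 := Finset.add_sum_erase Finset.univ (fun l => (K l).card) (Finset.mem_univ i)
    rw [h4] at h7
    have h8 := hpos i
    have h9 : ∑ j, N / c j ≤ N := hs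
    omega

omit [Finite G] in
/-- The sum of a character over the image of a homomorphism. -/
theorem sum_hom {H : Type v} [Group H] [Fintype H] (f : H →* G) {χ : G → ℂ} (hχ : IsCharacter G χ) :
    ∃ m : ℕ, ∑ h : H, χ (f h) = Fintype.card H * m := by
  have h1 : IsCharacter H (χ ∘ f) := Core.isCharacter_comp f hχ
  obtain ⟨m, hm⟩ := Core.classInner_isNat h1 Core.isCharacter_one
  refine ⟨m, ?_⟩
  have hne : (Nat.card H : ℂ) ≠ 0 := by exact_mod_cast Nat.card_pos.ne'
  rw [Core.classInner_def] at hm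
  rw [← Nat.card_eq_fintype_card, ← hm, mul_inv_cancel_left₀ hne]
  refine Finset.sum_congr rfl fun h _ => ?_
  simp

/-- The sum of a character over the products of the powers of commuting elements. -/
theorem sum_pow_pow {χ : G → ℂ} (hχ : IsCharacter G χ) {a b : G} (hab : Commute a b) {m n : ℕ} (ha : orderOf a = m)
    (hb : orderOf b = n) : ∃ k : ℕ, ∑ i : Fin m, ∑ j : Fin n, χ (a ^ (i : ℕ) * b ^ (j : ℕ)) = m * n * k := by
  classical
  subst ha hb
  let f : ↥(Subgroup.zpowers a) × ↥(Subgroup.zpowers b) →* G :=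
    MonoidHom.noncommCoprod (Subgroup.zpowers a).subtype (Subgroup.zpowers b).subtype (by
      rintro ⟨x, hx⟩ ⟨y, hy⟩
      obtain ⟨i, rfl⟩ := Subgroup.mem_zpowers_iff.1 hx
      obtain ⟨j, rfl⟩ := Subgroup.mem_zpowers_iff.1 hy
      exact (hab.zpow_left i).zpow_right j)
  have := Fintype.ofFinite ↥(Subgroup.zpowers a)
  have := Fintype.ofFinite ↥(Subgroup.zpowers b)
  obtain ⟨k, hk⟩ := sum_hom f hχ
  refine ⟨k, ?_⟩
  rw [Fintype.card_prod, ← Nat.card_eq_fintype_card, ← Nat.card_eq_fintype_card, Nat.card_zpowers, Nat.card_zpowers] at hk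
  push_cast at hk
  rw [← hk, Fintype.sum_prod_type]
  rw [← Equiv.sum_comp (finEquivZPowers (isOfFinOrder_of_finite a))]
  refine Finset.sum_congr rfl fun i _ => ?_
  rw [← Equiv.sum_comp (finEquivZPowers (isOfFinOrder_of_finite b))]
  refine Finset.sum_congr rfl fun j _ => ?_
  rfl

end Cfsg.Agent.H121.OZ
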