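import Cfsg.Agent.H1.J2Cover
import Cfsg.Agent.H121.OZ.JTwoDat
import Cfsg.Agent.H121.OZ.Cover

/-!
# The classes of `J₂` (100 points): orders and centralizers (helper121)

`r j = gw (rL j)`, `j < 21`: the representatives of `H1/J2Cover`.

* `type` : every element is conjugate to exactly one `r j`; its order is `ov j`, its centralizer has order `cv j`.
-/

set_option autoImplicit false
set_option maxRecDepth 100000

namespace Cfsg.Agent.H121.OZ.JTwoCls

open Cfsg.Agent.H1

open Cfsg.Agent.SporadicA.PermTab Cfsg.Agent.SporadicA.J2Hundred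
open Cfsg.Agent.J2.HundredGens Cfsg.Agent.H1.J2Cls Cfsg.Agent.H1.J2Cover Cfsg.Agent.H121.OZ.JTwoDat
open Cfsg.Agent.H604.OZ (cent)

/-- an entry of a table of keys -/
def gk (T i : ℕ) : ℕ := Nat.land (Nat.shiftRight T (Nat.mul 28 i)) 268435455

/-- the images of the base points -/
def key (w : ℕ) : ℕ :=
  Nat.add (Nat.mul 100 (Nat.add (Nat.mul 100 (Nat.add (Nat.mul 100 (J2Cls.rw 32 w (bs 0))) (J2Cls.rw 32 w (bs 1))))
    (J2Cls.rw 32 w (bs 2)))) (J2Cls.rw 32 w (bs 3))

/-- `w` commutes with `r` and has the key `k` -/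
def okE (r w k : ℕ) : Bool := band (Nat.beq (key w) k)
  (allB (fun i => Nat.beq (J2Cls.rw 32 w (J2Cls.rw 32 r (bs i))) (J2Cls.rw 32 r (J2Cls.rw 32 w (bs i)))) 4)

/-- the test of a list of elements of the centralizer -/
def chkC (r W K n : ℕ) : Bool := band (allB (fun i => okE r (ge W i) (gk K i)) n)
  (allB (fun i => Nat.blt (gk K i) (gk K (Nat.succ i))) (Nat.pred n))

theorem gw_eq_of_base {w r : ℕ} (h : ∀ i < 4, J2Cls.rw 32 w (J2Cls.rw 32 r (bs i)) = J2Cls.rw 32 r (J2Cls.rw 32 w (bs i))) :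
    gw (dec 32 w) * gw (dec 32 r) = gw (dec 32 r) * gw (dec 32 w) := by
  rw [← gw_append, ← gw_append]
  apply Subtype.ext
  change pw _ = pw _
  apply pw_eq_of_base
  intro i hi
  have hbi := bs_lt i hi
  have h6 : J2Cls.rw 32 w (bs i) < 100 := by rw [← run_dec' _ _ hbi]; exact run_lt hbi
  have h7 : J2Cls.rw 32 r (bs i) < 100 := by rw [← run_dec' _ _ hbi]; exact run_lt hbi
  rw [run_append, run_append, run_dec' _ _ hbi, run_dec' _ _ hbi, run_dec' _ _ h6, run_dec' _ _ h7]
  exact h i hi

theorem rw_eq_of_gw {w w' : ℕ} (h : gw (dec 32 w) = gw (dec 32 w')) {x : ℕ} (hx : x < 100) :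
    J2Cls.rw 32 w x = J2Cls.rw 32 w' x := by
  have h1 : pw (dec 32 w) = pw (dec 32 w') := congrArg Subtype.val h
  have h2 := pw_val (dec 32 w) ⟨x, hx⟩
  rw [h1, pw_val] at h2
  rw [← run_dec' _ _ hx, ← run_dec' _ _ hx]
  exact h2.symm

theorem key_eq_of_gw {w w' : ℕ} (h : gw (dec 32 w) = gw (dec 32 w')) : key w = key w' := by
  unfold key
  rw [rw_eq_of_gw h (bs_lt 0 (by norm_num)), rw_eq_of_gw h (bs_lt 1 (by norm_num)), rw_eq_of_gw h (bs_lt 2 (by norm_num)),
    rw_eq_of_gw h (bs_lt 3 (by norm_num))]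

theorem gk_lt {K n : ℕ} (h : ∀ i < n - 1, gk K i < gk K (i + 1)) : ∀ j < n, ∀ i < j, gk K i < gk K j := by
  intro j
  induction j with
  | zero => intro _ i hi; exact absurd hi (Nat.not_lt_zero i)
  | succ j ih =>
    intro hj i hi
    have h1 := h j (by omega)
    rcases Nat.lt_or_ge i j with h2 | h2
    · exact (ih (by omega) i h2).trans h1
    · have : i = j := by omega
      rw [this]
      exact h1

instance finG : Finite G := Nat.finite_of_card_ne_zero (by rw [card_G]; norm_num)

theorem le_cent {r W K n : ℕ} (h : chkC r W K n = true) : n ≤ cent (gw (dec 32 r)) := by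
  unfold chkC at h
  rw [band_eq_true, allB_iff, allB_iff] at h
  obtain ⟨h1, h2⟩ := h
  have hE : ∀ i < n, key (ge W i) = gk K i ∧ gw (dec 32 (ge W i)) * gw (dec 32 r) = gw (dec 32 r) * gw (dec 32 (ge W i)) := by
    intro i hi
    have h3 := h1 i hi
    unfold okE at h3
    rw [band_eq_true, allB_iff] at h3
    exact ⟨Nat.eq_of_beq_eq_true h3.1, gw_eq_of_base fun k hk => Nat.eq_of_beq_eq_true (h3.2 k hk)⟩
  have hlt := gk_lt (K := K) (n := n) fun i hi => by
    have h3 := h2 i (by rw [Nat.pred_eq_sub_one]; exact hi)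
    rwa [Nat.blt_eq] at h3
  let f : Fin n → ↥(Subgroup.centralizer ({gw (dec 32 r)} : Set G)) := fun i =>
    ⟨gw (dec 32 (ge W i)), Subgroup.mem_centralizer_singleton_iff.2 (hE i i.2).2⟩
  have hf : Function.Injective f := by
    intro i j hij
    have h3 : gw (dec 32 (ge W i)) = gw (dec 32 (ge W j)) := congrArg Subtype.val hij
    have h4 := key_eq_of_gw h3
    rw [(hE i i.2).1, (hE j j.2).1] at h4
    apply Fin.ext
    rcases Nat.lt_trichotomy (i : ℕ) j with h5 | h5 | h5
    · have := hlt j j.2 i h5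
      omega
    · exact h5
    · have := hlt i i.2 j h5
      omega
  have h3 := Nat.card_le_card_of_injective f hf
  rwa [Nat.card_eq_fintype_card, Fintype.card_fin] at h3

/-- the orders of the centralizers -/
def cl : List ℕ := [604800, 1920, 240, 300, 36, 8, 1080, 300, 20, 24, 12, 12, 20, 15, 96, 10, 15, 10, 7, 50, 50]
/-- the orders -/
def ol : List ℕ := [1, 2, 2, 5, 3, 8, 3, 5, 10, 6, 6, 12, 10, 15, 4, 10, 15, 10, 7, 5, 5]
/-- the orders of the centralizers -/
def cv (j : ℕ) : ℕ := cl.getD j 1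
/-- the orders -/
def ov (j : ℕ) : ℕ := ol.getD j 1

theorem k1 : chkC (R 1) cw1 ck1 1920 = true := by decide +kernel
theorem k2 : chkC (R 2) cw2 ck2 240 = true := by decide +kernel
theorem k3 : chkC (R 3) cw3 ck3 300 = true := by decide +kernel
theorem k4 : chkC (R 4) cw4 ck4 36 = true := by decide +kernel
theorem k5 : chkC (R 5) cw5 ck5 8 = true := by decide +kernel
theorem k6 : chkC (R 6) cw6 ck6 1080 = true := by decide +kernel
theorem k7 : chkC (R 7) cw7 ck7 300 = true := by decide +kernel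
theorem k8 : chkC (R 8) cw8 ck8 20 = true := by decide +kernel
theorem k9 : chkC (R 9) cw9 ck9 24 = true := by decide +kernel
theorem k10 : chkC (R 10) cw10 ck10 12 = true := by decide +kernel
theorem k11 : chkC (R 11) cw11 ck11 12 = true := by decide +kernel
theorem k12 : chkC (R 12) cw12 ck12 20 = true := by decide +kernel
theorem k13 : chkC (R 13) cw13 ck13 15 = true := by decide +kernel
theorem k14 : chkC (R 14) cw14 ck14 96 = true := by decide +kernel
theorem k15 : chkC (R 15) cw15 ck15 10 = true := by decide +kernel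
theorem k16 : chkC (R 16) cw16 ck16 15 = true := by decide +kernel
theorem k17 : chkC (R 17) cw17 ck17 10 = true := by decide +kernel
theorem k18 : chkC (R 18) cw18 ck18 7 = true := by decide +kernel
theorem k19 : chkC (R 19) cw19 ck19 50 = true := by decide +kernel
theorem k20 : chkC (R 20) cw20 ck20 50 = true := by decide +kernel

theorem cent_one : cent (1 : G) = 604800 := by
  have h : Subgroup.centralizer ({(1 : G)} : Set G) = ⊤ := by
    rw [eq_top_iff]
    intro g _
    rw [Subgroup.mem_centralizer_singleton_iff, mul_one, one_mul]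
  unfold cent
  rw [h, Subgroup.card_top, card_G]

theorem rL_zero : gw (rL 0) = 1 := by
  have : rL 0 = [] := by decide +kernel
  rw [this, gw_nil]

theorem le_cent_all (j : Fin 21) : cv j ≤ cent (gw (rL j)) := by
  fin_cases j
  · change 604800 ≤ cent (gw (rL 0))
    rw [rL_zero, cent_one]
  · exact le_cent k1
  · exact le_cent k2
  · exact le_cent k3
  · exact le_cent k4
  · exact le_cent k5
  · exact le_cent k6
  · exact le_cent k7
  · exact le_cent k8
  · exact le_cent k9
  · exact le_cent k10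
  · exact le_cent k11
  · exact le_cent k12
  · exact le_cent k13
  · exact le_cent k14
  · exact le_cent k15
  · exact le_cent k16
  · exact le_cent k17
  · exact le_cent k18
  · exact le_cent k19
  · exact le_cent k20

theorem classes : (∀ j : Fin 21, cent (gw (rL j)) = cv j) ∧
    ∀ i j : Fin 21, IsConj (gw (rL i)) (gw (rL j)) → i = j := by
  refine class_eq (G := G) (fun j : Fin 21 => gw (rL j)) (fun j => cv j) ?_ le_cent_all ?_ ?_ ?_
  · decide +kernel
  · rw [card_G]
    decide +kernel
  · intro g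
    obtain ⟨j, hj, c, hc⟩ := cover g
    exact ⟨⟨j, hj⟩, (isConj_iff.2 ⟨c, hc⟩).symm⟩
  · rw [card_G]
    decide +kernel

/-! ### orders -/

/-- the powers of a word -/
def it (w m x : ℕ) : ℕ := Nat.rec x (fun _ y => J2Cls.rw 32 w y) m

/-- `w` has order `o` -/
def chkO (w o : ℕ) : Bool := band (allB (fun i => Nat.beq (it w o (bs i)) (bs i)) 4)
  (allB (fun m => cond (Nat.beq m 0) true (cond (allB (fun i => Nat.beq (it w m (bs i)) (bs i)) 4) false true)) o)

theorem it_eq (w m : ℕ) (x : Fin 100) : it w m x = (((gw (dec 32 w) : G) : Equiv.Perm (Fin 100)) ^ m) x := by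
  induction m with
  | zero => rfl
  | succ m ih =>
    change J2Cls.rw 32 w (it w m x) = _
    rw [ih, pow_succ', Equiv.Perm.mul_apply, rw_eq]
    rfl

theorem pow_eq_one_iff {w m : ℕ} : gw (dec 32 w) ^ m = 1 ↔ ∀ i < 4, it w m (bs i) = bs i := by
  constructor
  · intro h i hi
    have h1 := it_eq w m ⟨bs i, bs_lt i hi⟩
    have h2 : ((gw (dec 32 w) : G) : Equiv.Perm (Fin 100)) ^ m = 1 := by
      rw [← Subgroup.coe_pow, h]
      rfl
    rw [h2] at h1
    exact h1
  · intro h
    apply Subtype.ext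
    rw [Subgroup.coe_pow]
    obtain ⟨b0, b1, b2, b3⟩ := bs_val
    have key : ∀ i (hi : i < 4), (((gw (dec 32 w) : G) : Equiv.Perm (Fin 100)) ^ m) ⟨bs i, bs_lt i hi⟩ = ⟨bs i, bs_lt i hi⟩ := by
      intro i hi
      apply Fin.ext
      rw [← it_eq]
      exact h i hi
    refine eq_of_base (pow_mem (gw (dec 32 w)).2 m) (one_mem G) ?_ ?_ ?_ ?_
    · have := key 0 (by norm_num)
      simp only [b0] at this
      exact this
    · have := key 1 (by norm_num)
      simp only [b1] at this
      exact this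
    · have := key 2 (by norm_num)
      simp only [b2] at this
      exact this
    · have := key 3 (by norm_num)
      simp only [b3] at this
      exact this

theorem orderOf_eq {w o : ℕ} (ho : 0 < o) (h : chkO w o = true) : orderOf (gw (dec 32 w)) = o := by
  unfold chkO at h
  rw [band_eq_true, allB_iff, allB_iff] at h
  obtain ⟨h1, h2⟩ := h
  have h3 : gw (dec 32 w) ^ o = 1 := pow_eq_one_iff.2 fun i hi => Nat.eq_of_beq_eq_true (h1 i hi)
  have h4 := orderOf_dvd_of_pow_eq_one h3
  have h5 := Nat.le_of_dvd ho h4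
  have h6 : 0 < orderOf (gw (dec 32 w)) := orderOf_pos _
  by_contra hne
  have h7 := h2 (orderOf (gw (dec 32 w))) (by omega)
  have h8 := pow_eq_one_iff.1 (pow_orderOf_eq_one (gw (dec 32 w)))
  have h9 : allB (fun i => Nat.beq (it w (orderOf (gw (dec 32 w))) (bs i)) (bs i)) 4 = true := by
    rw [allB_iff]
    intro i hi
    rw [h8 i hi, Nat.beq_refl]
  have h10 : Nat.beq (orderOf (gw (dec 32 w))) 0 = false := by
    cases h11 : Nat.beq (orderOf (gw (dec 32 w))) 0 with
    | true => exact absurd (Nat.eq_of_beq_eq_true h11) (by omega)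
    | false => rfl
  rw [h9, h10] at h7
  exact Bool.noConfusion h7

theorem okOrd : allB (fun j => band (Nat.blt 0 (ov j)) (chkO (R j) (ov j))) 21 = true := by decide +kernel

theorem order_r {j : ℕ} (hj : j < 21) : orderOf (gw (rL j)) = ov j := by
  have h := (allB_iff _ _).1 okOrd j hj
  rw [band_eq_true, Nat.blt_eq] at h
  exact orderOf_eq h.1 h.2

/-- **The type of an element.** -/
theorem type (g : G) : ∃ j : Fin 21, IsConj (gw (rL j)) g ∧ orderOf g = ov j ∧ cent g = cv j := by
  obtain ⟨j, hj, c, hc⟩ := cover g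
  have h1 : IsConj (gw (rL j)) g := (isConj_iff.2 ⟨c, hc⟩).symm
  refine ⟨⟨j, hj⟩, h1, ?_, ?_⟩
  · rw [← order_r hj]
    exact (H604.OZ.orderOf_eq_of_conj h1).symm
  · rw [← H672.OZ.cent_eq_of_conj h1]
    exact classes.1 ⟨j, hj⟩

end Cfsg.Agent.H121.OZ.JTwoCls
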